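import Groth.Prelude.Def_AlgGrp
import Groth.Agent.DescLib.Main
import Groth.Agent.AlgSpLib.AffineDescent
import Groth.Agent.AlgSpLib.ReducedSmooth
import Groth.Agent.GrpdFieldLib.ClosedSub
import Mathlib.AlgebraicGeometry.Morphisms.LocalFlatDescent
import Mathlib.FieldTheory.IsAlgClosed.Basic

/-!
Associated bundles of a torsor with affine fibre, by descent.
-/

set_option autoImplicit false
set_option backward.isDefEq.respectTransparency false
set_option maxHeartbeats 1000000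

noncomputable section

universe u

open CategoryTheory CategoryTheory.Limits MonoidalCategory CartesianMonoidalCategory MonObj AlgebraicGeometry

namespace AssocBundleLib

variable {S : Scheme.{u}} {G X Y Z : Over S} [GrpObj G]

theorem act_one (a : AlgGrp.Action G X) {T : Over S} (x : T ⟶ X) :
    lift (1 : T ⟶ G) x ≫ a.act = x := by
  have h := lift (toUnit T) x ≫= a.one_act
  rw [← Category.assoc, lift_whiskerRight] at h
  rw [Hom.one_def, h]
  simp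

theorem act_mul (a : AlgGrp.Action G X) {T : Over S} (g h : T ⟶ G) (x : T ⟶ X) :
    lift (g * h) x ≫ a.act = lift g (lift h x ≫ a.act) ≫ a.act := by
  have h' := lift (lift g h) x ≫= a.mul_act
  rw [← Category.assoc, lift_whiskerRight, ← Category.assoc, lift_lift_associator_hom, ← Category.assoc,
    lift_whiskerLeft] at h'
  rw [Hom.mul_def, h']

variable (a : AlgGrp.Action G X) {f : X ⟶ Y} (hsq : IsPullback a.act.left (snd G X).left f.left f.left)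

include hsq in
theorem exists_diff {T : Over S} (x₀ x₁ : T ⟶ X) (h : x₀ ≫ f = x₁ ≫ f) :
    ∃ g : T ⟶ G, lift g x₀ ≫ a.act = x₁ := by
  let u := hsq.lift x₁.left x₀.left (by rw [← Over.comp_left, ← Over.comp_left, h])
  have hu : u ≫ (G ⊗ X).hom = T.hom := by
    rw [← Over.w (snd G X), ← Category.assoc, hsq.lift_snd, Over.w]
  let u' : T ⟶ G ⊗ X := Over.homMk u hu
  have h1 : u' ≫ a.act = x₁ := Over.OverMorphism.ext (hsq.lift_fst _ _ _)
  have h2 : u' ≫ snd G X = x₀ := Over.OverMorphism.ext (hsq.lift_snd _ _ _)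
  refine ⟨u' ≫ fst G X, ?_⟩
  rw [← h2, lift_comp_fst_snd, h1]

include hsq in
theorem diff_unique {T : Over S} {g g' : T ⟶ G} {x : T ⟶ X}
    (h : lift g x ≫ a.act = lift g' x ≫ a.act) : g = g' := by
  have : lift g x = lift g' x := Over.OverMorphism.ext (hsq.hom_ext
    (by rw [← Over.comp_left, ← Over.comp_left, h])
    (by rw [← Over.comp_left, ← Over.comp_left, lift_snd, lift_snd]))
  simpa using this =≫ fst G X

/-- The group element moving one point to the other. -/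
def diff {T : Over S} (x₀ x₁ : T ⟶ X) (h : x₀ ≫ f = x₁ ≫ f) : T ⟶ G :=
  (exists_diff a hsq x₀ x₁ h).choose

theorem diff_spec {T : Over S} (x₀ x₁ : T ⟶ X) (h : x₀ ≫ f = x₁ ≫ f) :
    lift (diff a hsq x₀ x₁ h) x₀ ≫ a.act = x₁ :=
  (exists_diff a hsq x₀ x₁ h).choose_spec

variable (b : AlgGrp.Action G Z)

/-- Move a point of the product to a given first coordinate. -/
def move {T : Over S} (v : T ⟶ X ⊗ Z) (x₁ : T ⟶ X) (h : (v ≫ fst X Z) ≫ f = x₁ ≫ f) : T ⟶ X ⊗ Z :=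
  lift x₁ (lift (diff a hsq (v ≫ fst X Z) x₁ h) (v ≫ snd X Z) ≫ b.act)

theorem move_eq {T : Over S} (v : T ⟶ X ⊗ Z) (x₁ : T ⟶ X) (h : (v ≫ fst X Z) ≫ f = x₁ ≫ f) (g : T ⟶ G)
    (hg : lift g (v ≫ fst X Z) ≫ a.act = x₁) :
    move a hsq b v x₁ h = lift x₁ (lift g (v ≫ snd X Z) ≫ b.act) := by
  rw [move, diff_unique a hsq ((diff_spec a hsq _ x₁ h).trans hg.symm)]

theorem move_fst {T : Over S} (v : T ⟶ X ⊗ Z) (x₁ : T ⟶ X) (h : (v ≫ fst X Z) ≫ f = x₁ ≫ f) :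
    move a hsq b v x₁ h ≫ fst X Z = x₁ := lift_fst _ _

theorem move_self {T : Over S} (v : T ⟶ X ⊗ Z) : move a hsq b v (v ≫ fst X Z) rfl = v := by
  rw [move_eq a hsq b v _ rfl 1 (act_one a _), act_one, lift_comp_fst_snd]

theorem move_natural {T T' : Over S} (u : T' ⟶ T) (v : T ⟶ X ⊗ Z) (x₁ : T ⟶ X)
    (h : (v ≫ fst X Z) ≫ f = x₁ ≫ f) (h' : ((u ≫ v) ≫ fst X Z) ≫ f = (u ≫ x₁) ≫ f) :
    move a hsq b (u ≫ v) (u ≫ x₁) h' = u ≫ move a hsq b v x₁ h := by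
  have hg : lift (u ≫ diff a hsq _ x₁ h) ((u ≫ v) ≫ fst X Z) ≫ a.act = u ≫ x₁ := by
    rw [Category.assoc, ← comp_lift, Category.assoc, diff_spec]
  rw [move_eq a hsq b _ _ h' _ hg, move, comp_lift, Category.assoc, ← comp_lift, Category.assoc]

theorem move_move {T : Over S} (v : T ⟶ X ⊗ Z) (x₁ x₂ : T ⟶ X) (h : (v ≫ fst X Z) ≫ f = x₁ ≫ f)
    (h₂ : ((move a hsq b v x₁ h) ≫ fst X Z) ≫ f = x₂ ≫ f) (h₀₂ : (v ≫ fst X Z) ≫ f = x₂ ≫ f) :
    move a hsq b (move a hsq b v x₁ h) x₂ h₂ = move a hsq b v x₂ h₀₂ := by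
  have e₁ : x₁ ≫ f = x₂ ≫ f := by rw [← h, h₀₂]
  have hg₂ : lift (diff a hsq x₁ x₂ e₁) (move a hsq b v x₁ h ≫ fst X Z) ≫ a.act = x₂ := by
    rw [move_fst, diff_spec]
  rw [move_eq a hsq b _ _ h₂ _ hg₂,
    move_eq a hsq b v x₂ h₀₂ (diff a hsq x₁ x₂ e₁ * diff a hsq (v ≫ fst X Z) x₁ h)
      (by rw [act_mul, diff_spec, diff_spec]), act_mul]
  simp [move]

/-- The scheme level form of `move`. -/
def phi {T : Scheme.{u}} (v : T ⟶ (X ⊗ Z).left) (x₁ : T ⟶ X.left)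
    (h : (v ≫ (fst X Z).left) ≫ f.left = x₁ ≫ f.left) : T ⟶ (X ⊗ Z).left :=
  (move a hsq b (Over.homMk v : Over.mk (v ≫ (X ⊗ Z).hom) ⟶ X ⊗ Z)
    (Over.homMk x₁ (by
      show x₁ ≫ X.hom = v ≫ (X ⊗ Z).hom
      rw [← Over.w f, ← Category.assoc, ← h, ← Over.w (fst X Z)]
      simp only [Category.assoc]
      rw [Over.w f]))
    (Over.OverMorphism.ext h)).left

theorem phi_eq {T : Over S} (v : T ⟶ X ⊗ Z) (x₁ : T ⟶ X) (h : (v ≫ fst X Z) ≫ f = x₁ ≫ f)
    (h' : (v.left ≫ (fst X Z).left) ≫ f.left = x₁.left ≫ f.left) :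
    phi a hsq b v.left x₁.left h' = (move a hsq b v x₁ h).left := by
  let T' : Over S := Over.mk (v.left ≫ (X ⊗ Z).hom)
  let i : T' ⟶ T := Over.homMk (𝟙 _) (by show 𝟙 _ ≫ T.hom = v.left ≫ (X ⊗ Z).hom; rw [Category.id_comp, Over.w])
  have e₀ : i ≫ v = (Over.homMk v.left : T' ⟶ X ⊗ Z) := Over.OverMorphism.ext (Category.id_comp _)
  have h'' : ((i ≫ v) ≫ fst X Z) ≫ f = (i ≫ x₁) ≫ f := by simp only [Category.assoc] at h ⊢; rw [h]
  have e := move_natural a hsq b i v x₁ h h''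
  have e₁ := congrArg Over.Hom.left e
  rw [show (i ≫ move a hsq b v x₁ h).left = (move a hsq b v x₁ h).left from Category.id_comp _] at e₁
  rw [← e₁, phi]
  congr 2

theorem phi_fst {T : Scheme.{u}} (v : T ⟶ (X ⊗ Z).left) (x₁ : T ⟶ X.left)
    (h : (v ≫ (fst X Z).left) ≫ f.left = x₁ ≫ f.left) : phi a hsq b v x₁ h ≫ (fst X Z).left = x₁ := by
  rw [phi, ← Over.comp_left, move_fst]
  rfl

/-- The scheme level forms of two points over a scheme. -/
theorem exists_over {T : Scheme.{u}} (v : T ⟶ (X ⊗ Z).left) (x₁ : T ⟶ X.left)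
    (h : (v ≫ (fst X Z).left) ≫ f.left = x₁ ≫ f.left) :
    ∃ (T' : Over S) (_ : T'.left = T) (v' : T' ⟶ X ⊗ Z) (x' : T' ⟶ X), T'.hom ≍ v ≫ (X ⊗ Z).hom ∧
      v'.left ≍ v ∧ x'.left ≍ x₁ :=
  ⟨Over.mk (v ≫ (X ⊗ Z).hom), rfl, Over.homMk v, Over.homMk x₁ (by
      show x₁ ≫ X.hom = v ≫ (X ⊗ Z).hom
      rw [← Over.w f, ← Category.assoc, ← h, ← Over.w (fst X Z)]
      simp only [Category.assoc]
      rw [Over.w f]), HEq.rfl, HEq.rfl, HEq.rfl⟩

theorem phi_self {T : Scheme.{u}} (v : T ⟶ (X ⊗ Z).left) (x₁ : T ⟶ X.left)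
    (e : v ≫ (fst X Z).left = x₁) :
    phi a hsq b v x₁ (by rw [e]) = v := by
  subst e
  let v' : Over.mk (v ≫ (X ⊗ Z).hom) ⟶ X ⊗ Z := Over.homMk v
  have h := phi_eq a hsq b v' (v' ≫ fst X Z) rfl rfl
  rw [move_self] at h
  exact h

theorem phi_natural {T T' : Scheme.{u}} (u : T' ⟶ T) (v : T ⟶ (X ⊗ Z).left) (x₁ : T ⟶ X.left)
    (h : (v ≫ (fst X Z).left) ≫ f.left = x₁ ≫ f.left)
    (h' : ((u ≫ v) ≫ (fst X Z).left) ≫ f.left = (u ≫ x₁) ≫ f.left) :
    phi a hsq b (u ≫ v) (u ≫ x₁) h' = u ≫ phi a hsq b v x₁ h := by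
  obtain ⟨Tv, rfl, v', x', -, hv, hx⟩ := exists_over v x₁ h
  cases eq_of_heq hv
  cases eq_of_heq hx
  let u' : Over.mk (u ≫ Tv.hom) ⟶ Tv := Over.homMk u
  have hh : (v' ≫ fst X Z) ≫ f = x' ≫ f := Over.OverMorphism.ext h
  have hh' : ((u' ≫ v') ≫ fst X Z) ≫ f = (u' ≫ x') ≫ f := Over.OverMorphism.ext h'
  have e₁ := phi_eq a hsq b v' x' hh h
  have e₂ := phi_eq a hsq b (u' ≫ v') (u' ≫ x') hh' h'
  rw [e₁]
  refine e₂.trans ?_
  rw [move_natural a hsq b u' v' x' hh hh']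
  rfl

theorem phi_phi {T : Scheme.{u}} (v : T ⟶ (X ⊗ Z).left) (x₁ x₂ : T ⟶ X.left)
    (h : (v ≫ (fst X Z).left) ≫ f.left = x₁ ≫ f.left) (w : T ⟶ (X ⊗ Z).left)
    (hw : w = phi a hsq b v x₁ h) (h₂ : (w ≫ (fst X Z).left) ≫ f.left = x₂ ≫ f.left)
    (h₀₂ : (v ≫ (fst X Z).left) ≫ f.left = x₂ ≫ f.left) :
    phi a hsq b w x₂ h₂ = phi a hsq b v x₂ h₀₂ := by
  obtain ⟨Tv, rfl, v', x', -, hv, hx⟩ := exists_over v x₁ h
  cases eq_of_heq hv
  cases eq_of_heq hx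
  have hh : (v' ≫ fst X Z) ≫ f = x' ≫ f := Over.OverMorphism.ext h
  have hwX : x₂ ≫ X.hom = Tv.hom := by
    rw [← Over.w f, ← Category.assoc, ← h₀₂, ← Over.w v', ← Over.w (fst X Z)]
    simp only [Category.assoc]
    rw [Over.w f]
  let x₂' : Tv ⟶ X := Over.homMk x₂ hwX
  have hh₀₂ : (v' ≫ fst X Z) ≫ f = x₂' ≫ f := Over.OverMorphism.ext h₀₂
  have hm : (move a hsq b v' x' hh).left = w := hw ▸ (phi_eq a hsq b v' x' hh h).symm
  subst hm
  have hh₂ : (move a hsq b v' x' hh ≫ fst X Z) ≫ f = x₂' ≫ f := Over.OverMorphism.ext h₂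
  exact (phi_eq a hsq b _ x₂' hh₂ h₂).trans ((congrArg Over.Hom.left
    (move_move a hsq b v' x' x₂' hh hh₂ hh₀₂)).trans (phi_eq a hsq b v' x₂' hh₀₂ h₀₂).symm)

/-- The gluing map on points. -/
def lmove {T : Scheme.{u}} (x₀ x₁ : T ⟶ X.left) (h : x₀ ≫ f.left = x₁ ≫ f.left)
    (v : Desc.Lifts (Over.mk (fst X Z).left) x₀) : Desc.Lifts (Over.mk (fst X Z).left) x₁ :=
  ⟨phi a hsq b v.1 x₁ ((congrArg (· ≫ f.left) v.2).trans h), phi_fst a hsq b _ _ _⟩

theorem lmove_self {T : Scheme.{u}} (x : T ⟶ X.left) (v : Desc.Lifts (Over.mk (fst X Z).left) x) :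
    lmove a hsq b x x rfl v = v :=
  Subtype.ext (phi_self a hsq b v.1 x v.2)

theorem lmove_lmove {T : Scheme.{u}} (x₀ x₁ x₂ : T ⟶ X.left) (h₀₁ : x₀ ≫ f.left = x₁ ≫ f.left)
    (h₁₂ : x₁ ≫ f.left = x₂ ≫ f.left) (v : Desc.Lifts (Over.mk (fst X Z).left) x₀) :
    lmove a hsq b x₁ x₂ h₁₂ (lmove a hsq b x₀ x₁ h₀₁ v) = lmove a hsq b x₀ x₂ (h₀₁.trans h₁₂) v :=
  Subtype.ext (phi_phi a hsq b v.1 x₁ x₂ ((congrArg (· ≫ f.left) v.2).trans h₀₁) _ rfl
    ((congrArg (· ≫ f.left) (lmove a hsq b x₀ x₁ h₀₁ v).2).trans h₁₂)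
    ((congrArg (· ≫ f.left) v.2).trans (h₀₁.trans h₁₂)))

/-- The descent datum on the product. -/
def datum : Desc.SchDD f.left where
  obj := Over.mk (fst X Z).left
  φ T x₀ x₁ h :=
    { toFun := lmove a hsq b x₀ x₁ h
      invFun := lmove a hsq b x₁ x₀ h.symm
      left_inv := fun v => (lmove_lmove a hsq b x₀ x₁ x₀ h h.symm v).trans (lmove_self a hsq b x₀ v)
      right_inv := fun v => (lmove_lmove a hsq b x₁ x₀ x₁ h.symm h v).trans (lmove_self a hsq b x₁ v) }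
  φ_natural := by
    intro T T' g x₀ x₁ h h' v v' hv'
    obtain ⟨w, hw⟩ := v'
    change w = g ≫ v.1 at hv'
    subst hv'
    exact phi_natural a hsq b g v.1 x₁ ((congrArg (· ≫ f.left) v.2).trans h)
      ((congrArg (· ≫ f.left) hw).trans h')
  φ_self := fun _ x v => lmove_self a hsq b x v
  φ_comp := fun _ x₀ x₁ x₂ h₀₁ h₁₂ v => lmove_lmove a hsq b x₀ x₁ x₂ h₀₁ h₁₂ v

theorem rel_move {T : Over S} (v : T ⟶ X ⊗ Z) (x₁ : T ⟶ X) (h : (v ≫ fst X Z) ≫ f = x₁ ≫ f) :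
    DescLib.Rel (datum a hsq b) v.left (move a hsq b v x₁ h).left := by
  have h' : (v.left ≫ (fst X Z).left) ≫ f.left = x₁.left ≫ f.left := congrArg Over.Hom.left h
  rw [← phi_eq a hsq b v x₁ h h']
  exact DescLib.rel_φ (D := datum a hsq b) h' ⟨v.left, rfl⟩

end AssocBundleLib

namespace AssocBundleLib

theorem exists_bundle {k : Type u} [Field k] [IsAlgClosed k]
    {G X Y Z : Over (Spec (CommRingCat.of k))} [GrpObj G]
    [IsReduced X.left] [IsSeparated X.hom] [LocallyOfFiniteType X.hom] [QuasiCompact X.hom]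
    [IsSeparated Y.hom] [LocallyOfFiniteType Y.hom] [QuasiCompact Y.hom]
    [IsReduced Z.left] [IsAffine Z.left] [LocallyOfFiniteType Z.hom]
    (a : AlgGrp.Action G X) (f : X ⟶ Y) [Flat f.left] [Surjective f.left]
    (hsq : IsPullback a.act.left (snd G X).left f.left f.left) (b : AlgGrp.Action G Z) :
    ∃ (W : Over (Spec (CommRingCat.of k))) (φ : X ⊗ Z ⟶ W) (ψ : W ⟶ Y),
      IsReduced W.left ∧ IsSeparated W.hom ∧ LocallyOfFiniteType W.hom ∧ QuasiCompact W.hom ∧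
      lift ((G ◁ fst X Z) ≫ a.act) ((G ◁ snd X Z) ≫ b.act) ≫ φ = snd G (X ⊗ Z) ≫ φ ∧
      IsPullback (fst X Z).left φ.left f.left ψ.left := by
  haveI : QuasiCompact (f.left ≫ Y.hom) := (Over.w f).symm ▸ ‹QuasiCompact X.hom›
  haveI : QuasiCompact f.left := QuasiCompact.of_comp f.left Y.hom
  haveI : IsAffineHom Z.hom := inferInstance
  haveI hfst : IsAffineHom (fst X Z).left :=
    (MorphismProperty.pullback_fst (P := @IsAffineHom) X.hom Z.hom inferInstance : IsAffineHom (pullback.fst X.hom Z.hom))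
  haveI hfstt : LocallyOfFiniteType (fst X Z).left :=
    inferInstanceAs (LocallyOfFiniteType (pullback.fst X.hom Z.hom))
  let D := datum a hsq b
  haveI : IsAffineHom D.obj.hom := hfst
  obtain ⟨U, g, q, hq⟩ := DescLib.exists_isQuot_of_effective D (DescLib.effective_of_isAffineHom D)
  have hP : IsPullback q (fst X Z).left g f.left := by simpa [D, datum] using hq.isPullback
  have hc : Surjective f.left ∧ Flat f.left ∧ QuasiCompact f.left := ⟨‹_›, ‹_›, ‹_›⟩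
  haveI : IsAffineHom g := MorphismProperty.of_isPullback_of_descendsAlong
    (P := @IsAffineHom) (Q := @Surjective ⊓ @Flat ⊓ @QuasiCompact) hP.flip ⟨⟨hc.1, hc.2.1⟩, hc.2.2⟩ hfst
  haveI : LocallyOfFiniteType g := MorphismProperty.of_isPullback_of_descendsAlong
    (P := @LocallyOfFiniteType) (Q := @Surjective ⊓ @Flat ⊓ @QuasiCompact) hP.flip ⟨⟨hc.1, hc.2.1⟩, hc.2.2⟩ hfstt
  haveI : Surjective q := MorphismProperty.of_isPullback (P := @Surjective) hP.flip inferInstance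
  haveI : Flat q := MorphismProperty.of_isPullback (P := @Flat) hP.flip inferInstance
  haveI : GeometricallyReduced Z.hom := GrpdFieldLib.geometricallyReduced_of_perfect Z.hom
  haveI : IsLocallyNoetherian X.left := LocallyOfFiniteType.isLocallyNoetherian X.hom
  haveI : IsReduced (X ⊗ Z).left := inferInstanceAs (IsReduced (pullback X.hom Z.hom))
  have hred : IsReduced U := AlgSpLib.isReduced_of_flat_surjective (X := (X ⊗ Z).left) q
  refine ⟨Over.mk (g ≫ Y.hom), Over.homMk q ?_, Over.homMk g rfl, hred, ?_, ?_, ?_, ?_, hP.flip⟩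
  · show q ≫ g ≫ Y.hom = (X ⊗ Z).hom
    rw [hP.w_assoc, Over.w f, Over.w]
  · show IsSeparated (g ≫ Y.hom); infer_instance
  · show LocallyOfFiniteType (g ≫ Y.hom); infer_instance
  · show QuasiCompact (g ≫ Y.hom); infer_instance
  · apply Over.OverMorphism.ext
    let T := G ⊗ (X ⊗ Z)
    let L : T ⟶ X ⊗ Z := lift ((G ◁ fst X Z) ≫ a.act) ((G ◁ snd X Z) ≫ b.act)
    have hL : L ≫ fst X Z = (G ◁ fst X Z) ≫ a.act := lift_fst _ _
    have hg : lift (fst G (X ⊗ Z)) (snd G (X ⊗ Z) ≫ fst X Z) ≫ a.act = L ≫ fst X Z := by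
      rw [hL]; rfl
    have h : (snd G (X ⊗ Z) ≫ fst X Z) ≫ f = (L ≫ fst X Z) ≫ f := by
      rw [← hg, Category.assoc (lift _ _), Over.OverMorphism.ext (f := a.act ≫ f) (g := snd G X ≫ f) hsq.w,
        lift_snd_assoc]
    have e : move a hsq b (snd G (X ⊗ Z)) (L ≫ fst X Z) h = L := by
      rw [move_eq a hsq b _ _ h _ hg, hL]; rfl
    have r := rel_move a hsq b (snd G (X ⊗ Z)) (L ≫ fst X Z) h
    rw [e] at r
    exact (hq.rel (snd G (X ⊗ Z)).left L.left (by rw [Category.comp_id, Category.comp_id]; exact r)).symm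

end AssocBundleLib
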